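/-!
Tables for the configuration in the elementary abelian group of order sixteen of the semilinear group,
produced by a script from the tables of `ThompsonData`.
-/

set_option autoImplicit false
set_option maxRecDepth 100000

namespace Cfsg.Agent.LargeFischer.MatFineData

/-- indices of the involutions by pairs of lines -/
noncomputable def pairTab : List (List Nat) :=
    [[15, 8, 2, 3, 7, 9], [8, 15, 0, 1, 4, 10], [2, 0, 15, 14, 6, 13], [3, 1, 14, 15, 5, 11], [7, 4, 6, 5, 15, 12], 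
    [9, 10, 13, 11, 12, 15]]

/-- the six lines of roots -/
noncomputable def lineTab : List (List Nat) :=
    [[5, 10, 15], [272, 544, 816], [1088, 2176, 3264], [1365, 2730, 4095], [1647, 2997, 3546], [1914, 2463, 3813]]

/-- action of the normalising elements on the lines -/
noncomputable def sigTab : List (List Nat) :=
    [[4, 1, 3, 2, 0, 5], [1, 0, 2, 3, 5, 4], [0, 1, 2, 4, 5, 3]]

/-- moved spaces of the involutions -/
noncomputable def mvTab : List (List Nat) :=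
    [[0, 272, 544, 816, 1088, 1360, 1632, 1904, 2176, 2448, 2720, 2992, 3264, 3536, 3808, 4080], [0, 272, 544, 816, 
    1093, 1365, 1637, 1909, 2186, 2458, 2730, 3002, 3279, 3551, 3823, 4095], [0, 5, 10, 15, 1088, 1093, 1098, 1103, 
    2176, 2181, 2186, 2191, 3264, 3269, 3274, 3279], [0, 5, 10, 15, 1360, 1365, 1370, 1375, 2720, 2725, 2730, 2735, 
    4080, 4085, 4090, 4095], [0, 272, 544, 816, 1103, 1375, 1647, 1919, 2181, 2453, 2725, 2997, 3274, 3546, 3818, 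
    4090], [0, 287, 549, 826, 1098, 1365, 1647, 1904, 2191, 2448, 2730, 2997, 3269, 3546, 3808, 4095], [0, 282, 
    559, 821, 1088, 1370, 1647, 1909, 2176, 2458, 2735, 2997, 3264, 3546, 3823, 4085], [0, 5, 10, 15, 1632, 1637, 
    1642, 1647, 2992, 2997, 3002, 3007, 3536, 3541, 3546, 3551], [0, 5, 10, 15, 272, 277, 282, 287, 544, 549, 554, 
    559, 816, 821, 826, 831], [0, 5, 10, 15, 1904, 1909, 1914, 1919, 2448, 2453, 2458, 2463, 3808, 3813, 3818, 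
    3823], [0, 272, 544, 816, 1098, 1370, 1642, 1914, 2191, 2463, 2735, 3007, 3269, 3541, 3813, 4085], [0, 282, 
    559, 821, 1103, 1365, 1632, 1914, 2181, 2463, 2730, 2992, 3274, 3536, 3813, 4095], [0, 277, 554, 831, 1093, 
    1360, 1647, 1914, 2186, 2463, 2720, 2997, 3279, 3546, 3813, 4080], [0, 287, 549, 826, 1088, 1375, 1637, 1914, 
    2176, 2463, 2725, 3002, 3264, 3551, 3813, 4090], [0, 277, 554, 831, 1088, 1365, 1642, 1919, 2176, 2453, 2730, 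
    3007, 3264, 3541, 3818, 4095]]

/-- preimages of the moved vectors -/
noncomputable def mvWit : List (List Nat) :=
    [[0, 16, 32, 48, 64, 80, 96, 112, 128, 144, 160, 176, 192, 208, 224, 240], [0, 17, 34, 51, 16, 1, 50, 35, 32, 
    49, 2, 19, 48, 33, 18, 3], [0, 1, 2, 3, 64, 65, 66, 67, 128, 129, 130, 131, 192, 193, 194, 195], [0, 17, 34, 
    51, 1, 16, 35, 50, 2, 19, 32, 49, 3, 18, 33, 48], [0, 18, 35, 49, 32, 50, 3, 17, 48, 34, 19, 1, 16, 2, 51, 33], 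
    [0, 19, 33, 50, 48, 35, 17, 2, 16, 3, 49, 34, 32, 51, 1, 18], [0, 192, 64, 128, 67, 131, 3, 195, 129, 65, 193, 
    1, 194, 2, 130, 66], [0, 49, 18, 35, 3, 50, 17, 32, 1, 48, 19, 34, 2, 51, 16, 33], [0, 1, 2, 3, 16, 17, 18, 19, 
    32, 33, 34, 35, 48, 49, 50, 51], [0, 33, 50, 19, 2, 35, 48, 17, 3, 34, 49, 16, 1, 32, 51, 18], [0, 19, 33, 50, 
    48, 35, 17, 2, 16, 3, 49, 34, 32, 51, 1, 18], [0, 18, 35, 49, 32, 50, 3, 17, 48, 34, 19, 1, 16, 2, 51, 33], [0, 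
    17, 34, 51, 16, 1, 50, 35, 32, 49, 2, 19, 48, 33, 18, 3], [0, 128, 192, 64, 66, 194, 130, 2, 131, 3, 67, 195, 
    193, 65, 1, 129], [0, 64, 128, 192, 65, 1, 193, 129, 130, 194, 2, 66, 195, 131, 67, 3]]

/-- witnesses of the product of three lifts -/
noncomputable def starWit : List (List (List Nat)) :=
    [[[0, 0, 0], [1, 2, 3], [1, 2, 3], [17, 34, 51], [49, 18, 35], [33, 50, 19]], [[16, 32, 48], [0, 0, 0], [16, 
    32, 48], [17, 34, 51], [18, 35, 49], [19, 33, 50]], [[64, 128, 192], [64, 128, 192], [0, 0, 0], [65, 130, 195], 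
    [67, 129, 194], [66, 131, 193]], [[16, 32, 48], [1, 2, 3], [1, 2, 3], [0, 0, 0], [35, 49, 18], [50, 19, 33]], 
    [[32, 48, 16], [3, 1, 2], [3, 1, 2], [17, 34, 51], [0, 0, 0], [50, 19, 33]], [[48, 16, 32], [2, 3, 1], [2, 3, 
    1], [17, 34, 51], [35, 49, 18], [0, 0, 0]]]

/-- witnesses for two cosets with a common line -/
noncomputable def shiftWit : List (List (List (List Nat))) :=
    [[[[], [], [], [], [], []], [[], [], [16, 32, 48], [80, 160, 240], [208, 96, 176], [144, 224, 112]], [[], [64, 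
    128, 192], [], [80, 160, 240], [96, 176, 208], [112, 144, 224]], [[], [64, 128, 192], [16, 32, 48], [], [176, 
    208, 96], [224, 112, 144]], [[], [64, 128, 192], [32, 48, 16], [240, 80, 160], [], [144, 224, 112]], [[], [64, 
    128, 192], [48, 16, 32], [160, 240, 80], [208, 96, 176], []]], [[[], [], [1, 2, 3], [65, 130, 195], [129, 194, 
    67], [193, 66, 131]], [[], [], [], [], [], []], [[64, 128, 192], [], [], [65, 130, 195], [67, 129, 194], [66, 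
    131, 193]], [[64, 128, 192], [], [1, 2, 3], [], [194, 67, 129], [131, 193, 66]], [[64, 128, 192], [], [3, 1, 
    2], [130, 195, 65], [], [193, 66, 131]], [[64, 128, 192], [], [2, 3, 1], [195, 65, 130], [129, 194, 67], []]], 
    [[[], [1, 2, 3], [], [17, 34, 51], [49, 18, 35], [33, 50, 19]], [[16, 32, 48], [], [], [17, 34, 51], [18, 35, 
    49], [19, 33, 50]], [[], [], [], [], [], []], [[16, 32, 48], [1, 2, 3], [], [], [35, 49, 18], [50, 19, 33]], 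
    [[32, 48, 16], [3, 1, 2], [], [17, 34, 51], [], [50, 19, 33]], [[48, 16, 32], [2, 3, 1], [], [17, 34, 51], [35, 
    49, 18], []]], [[[], [65, 130, 195], [17, 34, 51], [], [225, 114, 147], [177, 210, 99]], [[80, 160, 240], [], 
    [17, 34, 51], [], [147, 225, 114], [210, 99, 177]], [[80, 160, 240], [65, 130, 195], [], [], [114, 147, 225], 
    [99, 177, 210]], [[], [], [], [], [], []], [[240, 80, 160], [130, 195, 65], [17, 34, 51], [], [], [99, 177, 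
    210]], [[160, 240, 80], [195, 65, 130], [17, 34, 51], [], [114, 147, 225], []]], [[[], [129, 194, 67], [49, 18, 
    35], [225, 114, 147], [], [81, 162, 243]], [[208, 96, 176], [], [18, 35, 49], [147, 225, 114], [], [81, 162, 
    243]], [[96, 176, 208], [67, 129, 194], [], [114, 147, 225], [], [81, 162, 243]], [[176, 208, 96], [194, 67, 
    129], [35, 49, 18], [], [], [81, 162, 243]], [[], [], [], [], [], []], [[208, 96, 176], [129, 194, 67], [35, 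
    49, 18], [114, 147, 225], [], []]], [[[], [193, 66, 131], [33, 50, 19], [177, 210, 99], [81, 162, 243], []], 
    [[144, 224, 112], [], [19, 33, 50], [210, 99, 177], [81, 162, 243], []], [[112, 144, 224], [66, 131, 193], [], 
    [99, 177, 210], [81, 162, 243], []], [[224, 112, 144], [131, 193, 66], [50, 19, 33], [], [81, 162, 243], []], 
    [[144, 224, 112], [193, 66, 131], [50, 19, 33], [99, 177, 210], [], []], [[], [], [], [], [], []]]]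

/-- fixed vectors of one involution moved by another -/
noncomputable def meetWit : List (List (List Nat)) :=
    [[[], [0, 1, 2, 3], [0, 1, 2, 3], [0, 1, 2, 3], [0, 1, 2, 3], [0, 1, 2, 3], [0, 1, 2, 3], [0, 1, 2, 3], [0, 1, 
    2, 3], [0, 1, 2, 3], [0, 1, 2, 3], [0, 1, 2, 3], [0, 1, 2, 3], [0, 1, 2, 3], [0, 1, 2, 3]], [[0, 65, 130, 195], 
    [], [0, 65, 130, 195], [0, 65, 130, 195], [0, 65, 130, 195], [0, 65, 130, 195], [0, 65, 130, 195], [0, 65, 130, 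
    195], [0, 65, 130, 195], [0, 65, 130, 195], [0, 65, 130, 195], [0, 65, 130, 195], [0, 65, 130, 195], [0, 65, 
    130, 195], [0, 65, 130, 195]], [[0, 16, 32, 48], [0, 16, 32, 48], [], [0, 16, 32, 48], [0, 16, 32, 48], [0, 16, 
    32, 48], [0, 16, 32, 48], [0, 16, 32, 48], [0, 16, 32, 48], [0, 16, 32, 48], [0, 16, 32, 48], [0, 16, 32, 48], 
    [0, 16, 32, 48], [0, 16, 32, 48], [0, 16, 32, 48]], [[0, 80, 160, 240], [0, 80, 160, 240], [0, 80, 160, 240], 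
    [], [0, 80, 160, 240], [0, 80, 160, 240], [0, 80, 160, 240], [0, 80, 160, 240], [0, 80, 160, 240], [0, 80, 160, 
    240], [0, 80, 160, 240], [0, 80, 160, 240], [0, 80, 160, 240], [0, 80, 160, 240], [0, 80, 160, 240]], [[0, 67, 
    129, 194], [0, 67, 129, 194], [0, 67, 129, 194], [0, 67, 129, 194], [], [0, 67, 129, 194], [0, 67, 129, 194], 
    [0, 67, 129, 194], [0, 67, 129, 194], [0, 67, 129, 194], [0, 67, 129, 194], [0, 67, 129, 194], [0, 67, 129, 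
    194], [0, 67, 129, 194], [0, 67, 129, 194]], [[0, 114, 147, 225], [0, 114, 147, 225], [0, 114, 147, 225], [0, 
    114, 147, 225], [0, 114, 147, 225], [], [0, 114, 147, 225], [0, 114, 147, 225], [0, 114, 147, 225], [0, 114, 
    147, 225], [0, 114, 147, 225], [0, 114, 147, 225], [0, 114, 147, 225], [0, 114, 147, 225], [0, 114, 147, 225]], 
    [[0, 18, 35, 49], [0, 18, 35, 49], [0, 18, 35, 49], [0, 18, 35, 49], [0, 18, 35, 49], [0, 18, 35, 49], [], [0, 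
    18, 35, 49], [0, 18, 35, 49], [0, 18, 35, 49], [0, 18, 35, 49], [0, 18, 35, 49], [0, 18, 35, 49], [0, 18, 35, 
    49], [0, 18, 35, 49]], [[0, 96, 176, 208], [0, 96, 176, 208], [0, 96, 176, 208], [0, 96, 176, 208], [0, 96, 
    176, 208], [0, 96, 176, 208], [0, 96, 176, 208], [], [0, 96, 176, 208], [0, 96, 176, 208], [0, 96, 176, 208], 
    [0, 96, 176, 208], [0, 96, 176, 208], [0, 96, 176, 208], [0, 96, 176, 208]], [[0, 64, 128, 192], [0, 64, 128, 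
    192], [0, 64, 128, 192], [0, 64, 128, 192], [0, 64, 128, 192], [0, 64, 128, 192], [0, 64, 128, 192], [0, 64, 
    128, 192], [], [0, 64, 128, 192], [0, 64, 128, 192], [0, 64, 128, 192], [0, 64, 128, 192], [0, 64, 128, 192], 
    [0, 64, 128, 192]], [[0, 112, 144, 224], [0, 112, 144, 224], [0, 112, 144, 224], [0, 112, 144, 224], [0, 112, 
    144, 224], [0, 112, 144, 224], [0, 112, 144, 224], [0, 112, 144, 224], [0, 112, 144, 224], [], [0, 112, 144, 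
    224], [0, 112, 144, 224], [0, 112, 144, 224], [0, 112, 144, 224], [0, 112, 144, 224]], [[0, 66, 131, 193], [0, 
    66, 131, 193], [0, 66, 131, 193], [0, 66, 131, 193], [0, 66, 131, 193], [0, 66, 131, 193], [0, 66, 131, 193], 
    [0, 66, 131, 193], [0, 66, 131, 193], [0, 66, 131, 193], [], [0, 66, 131, 193], [0, 66, 131, 193], [0, 66, 131, 
    193], [0, 66, 131, 193]], [[0, 99, 177, 210], [0, 99, 177, 210], [0, 99, 177, 210], [0, 99, 177, 210], [0, 99, 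
    177, 210], [0, 99, 177, 210], [0, 99, 177, 210], [0, 99, 177, 210], [0, 99, 177, 210], [0, 99, 177, 210], [0, 
    99, 177, 210], [], [0, 99, 177, 210], [0, 99, 177, 210], [0, 99, 177, 210]], [[0, 81, 162, 243], [0, 81, 162, 
    243], [0, 81, 162, 243], [0, 81, 162, 243], [0, 81, 162, 243], [0, 81, 162, 243], [0, 81, 162, 243], [0, 81, 
    162, 243], [0, 81, 162, 243], [0, 81, 162, 243], [0, 81, 162, 243], [0, 81, 162, 243], [], [0, 81, 162, 243], 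
    [0, 81, 162, 243]], [[0, 19, 33, 50], [0, 19, 33, 50], [0, 19, 33, 50], [0, 19, 33, 50], [0, 19, 33, 50], [0, 
    19, 33, 50], [0, 19, 33, 50], [0, 19, 33, 50], [0, 19, 33, 50], [0, 19, 33, 50], [0, 19, 33, 50], [0, 19, 33, 
    50], [0, 19, 33, 50], [], [0, 19, 33, 50]], [[0, 17, 34, 51], [0, 17, 34, 51], [0, 17, 34, 51], [0, 17, 34, 
    51], [0, 17, 34, 51], [0, 17, 34, 51], [0, 17, 34, 51], [0, 17, 34, 51], [0, 17, 34, 51], [0, 17, 34, 51], [0, 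
    17, 34, 51], [0, 17, 34, 51], [0, 17, 34, 51], [0, 17, 34, 51], []]]

/-- ordered quadruples of lines -/
noncomputable def quadTab : List (List Nat) :=
    [[0, 1, 2, 3], [4, 1, 3, 2], [1, 0, 2, 3], [0, 1, 2, 4], [5, 0, 3, 2], [5, 1, 4, 2], [1, 4, 3, 2], [1, 0, 2, 
    4], [4, 1, 3, 0], [1, 0, 2, 5], [0, 1, 2, 5], [5, 4, 2, 3], [3, 0, 4, 2], [5, 1, 0, 3], [4, 0, 5, 2], [3, 1, 5, 
    2], [0, 5, 3, 2], [1, 5, 4, 2], [1, 4, 3, 0], [5, 0, 3, 1], [5, 1, 4, 0], [1, 4, 3, 5], [4, 1, 3, 5], [4, 5, 2, 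
    3], [3, 5, 2, 4], [2, 4, 0, 3], [4, 0, 1, 3], [3, 1, 0, 4], [0, 4, 5, 3], [2, 1, 5, 3], [0, 3, 4, 2], [1, 5, 0, 
    3], [0, 4, 5, 2], [1, 3, 5, 2], [0, 5, 3, 1], [1, 5, 4, 0], [5, 4, 2, 1], [3, 0, 4, 1], [5, 1, 0, 4], [4, 0, 5, 
    1], [3, 1, 5, 0], [0, 5, 3, 4], [1, 5, 4, 3], [5, 0, 3, 4], [5, 1, 4, 3], [5, 3, 2, 4], [2, 5, 3, 0], [3, 4, 2, 
    5], [4, 3, 2, 5], [2, 5, 1, 3], [2, 5, 0, 4], [0, 4, 1, 2], [5, 0, 1, 4], [2, 1, 4, 0], [3, 0, 1, 5], [4, 1, 0, 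
    5], [2, 0, 4, 3], [2, 1, 3, 4], [4, 2, 0, 3], [0, 4, 1, 3], [1, 3, 0, 4], [4, 0, 5, 3], [1, 2, 5, 3], [4, 5, 2, 
    1], [0, 3, 4, 1], [1, 5, 0, 4], [0, 4, 5, 1], [1, 3, 5, 0], [4, 5, 2, 0], [3, 5, 2, 1], [2, 4, 0, 1], [4, 0, 1, 
    5], [3, 1, 0, 5], [2, 1, 5, 4], [0, 3, 4, 5], [1, 5, 0, 2], [1, 3, 5, 4], [5, 4, 2, 0], [3, 0, 4, 5], [5, 1, 0, 
    2], [3, 1, 5, 4], [5, 2, 3, 0], [2, 4, 3, 1], [2, 3, 4, 0], [2, 0, 3, 5], [0, 2, 3, 5], [3, 5, 1, 2], [2, 3, 1, 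
    4], [3, 5, 4, 0], [2, 4, 1, 5], [2, 3, 0, 5], [0, 5, 1, 2], [5, 4, 1, 0], [2, 0, 5, 1], [2, 1, 5, 0], [0, 1, 4, 
    5], [3, 4, 0, 2], [2, 0, 5, 4], [3, 1, 2, 0], [2, 1, 4, 5], [5, 2, 1, 3], [5, 2, 0, 4], [4, 0, 1, 2], [0, 5, 1, 
    4], [1, 2, 4, 0], [0, 3, 1, 5], [1, 4, 0, 5], [0, 2, 4, 3], [1, 2, 3, 4], [5, 3, 2, 1], [4, 2, 0, 1], [0, 4, 1, 
    5], [1, 3, 0, 5], [1, 2, 5, 4], [5, 3, 2, 0], [2, 5, 3, 1], [3, 4, 2, 0], [4, 3, 2, 1], [2, 5, 1, 0], [2, 5, 0, 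
    1], [5, 0, 1, 3], [3, 0, 1, 4], [4, 1, 0, 3], [2, 0, 4, 5], [2, 1, 3, 5], [4, 2, 0, 5], [1, 3, 0, 2], [1, 2, 5, 
    0], [3, 5, 2, 0], [2, 4, 0, 5], [3, 1, 0, 2], [4, 2, 3, 1], [3, 2, 4, 0], [3, 0, 2, 1], [2, 5, 4, 1], [3, 2, 0, 
    4], [2, 3, 5, 1], [2, 4, 5, 0], [4, 3, 1, 2], [3, 2, 1, 0], [3, 4, 5, 1], [4, 3, 5, 0], [3, 2, 4, 5], [4, 5, 1, 
    3], [1, 4, 0, 2], [0, 3, 1, 2], [4, 5, 0, 1], [3, 5, 1, 0], [2, 0, 3, 1], [2, 0, 4, 1], [2, 1, 3, 0], [1, 0, 5, 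
    4], [0, 1, 5, 3], [4, 5, 0, 2], [3, 4, 5, 0], [4, 1, 2, 0], [5, 3, 1, 2], [3, 2, 1, 4], [5, 3, 4, 0], [4, 2, 1, 
    5], [3, 2, 0, 5], [5, 0, 1, 2], [4, 5, 1, 0], [0, 2, 5, 1], [1, 0, 4, 5], [4, 3, 0, 2], [0, 2, 5, 4], [1, 3, 2, 
    0], [1, 2, 4, 5], [5, 2, 3, 1], [4, 3, 2, 0], [3, 4, 2, 1], [5, 2, 1, 0], [5, 2, 0, 1], [0, 5, 1, 3], [0, 3, 1, 
    4], [1, 4, 0, 3], [0, 2, 4, 5], [1, 2, 3, 5], [5, 2, 3, 4], [2, 4, 3, 0], [2, 3, 4, 1], [2, 0, 3, 4], [0, 2, 3, 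
    1], [3, 5, 1, 4], [2, 3, 1, 0], [3, 5, 4, 1], [2, 4, 1, 0], [2, 3, 0, 1], [5, 4, 1, 2], [0, 1, 4, 2], [3, 4, 0, 
    5], [2, 0, 5, 3], [3, 1, 2, 5], [2, 1, 4, 3], [5, 2, 1, 4], [5, 2, 0, 3], [1, 2, 4, 3], [0, 2, 4, 1], [1, 2, 3, 
    0], [2, 5, 3, 4], [2, 5, 1, 4], [2, 5, 0, 3], [3, 0, 1, 2], [4, 1, 0, 2], [0, 3, 2, 1], [5, 2, 4, 1], [2, 3, 0, 
    4], [3, 2, 5, 1], [4, 2, 5, 0], [4, 0, 2, 1], [3, 5, 0, 1], [3, 2, 1, 5], [3, 0, 5, 4], [0, 2, 1, 3], [5, 3, 0, 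
    2], [3, 2, 0, 1], [4, 2, 1, 0], [4, 5, 3, 1], [5, 3, 4, 1], [5, 4, 3, 0], [3, 2, 5, 4], [4, 2, 5, 3], [5, 4, 0, 
    3], [5, 3, 1, 4], [1, 0, 4, 3], [4, 2, 1, 3], [0, 5, 4, 1], [5, 3, 0, 1], [3, 4, 0, 1], [4, 3, 1, 0], [3, 1, 2, 
    4], [1, 4, 5, 0], [1, 0, 3, 5], [4, 1, 5, 2], [0, 1, 3, 4], [0, 5, 4, 3], [4, 5, 3, 0], [5, 0, 2, 1], [5, 1, 2, 
    0], [3, 4, 1, 2], [4, 3, 5, 1], [2, 3, 4, 5], [5, 4, 1, 3], [5, 4, 0, 1], [5, 3, 1, 0], [0, 1, 5, 4], [1, 0, 5, 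
    3], [5, 4, 0, 2], [1, 4, 2, 0], [4, 2, 3, 0], [3, 2, 4, 1], [0, 2, 3, 4], [4, 5, 1, 2], [1, 0, 4, 2], [4, 3, 0, 
    5], [0, 2, 5, 3], [1, 3, 2, 5], [4, 2, 3, 5], [3, 0, 2, 4], [2, 5, 4, 0], [2, 3, 5, 0], [2, 4, 5, 1], [4, 3, 1, 
    5], [1, 0, 5, 2], [0, 1, 5, 2], [4, 5, 0, 3], [3, 4, 5, 2], [4, 1, 2, 3], [5, 3, 4, 2], [4, 3, 0, 1], [1, 3, 2, 
    4], [2, 4, 3, 5], [2, 3, 1, 5], [3, 5, 4, 2], [2, 4, 1, 3], [0, 1, 4, 3], [0, 4, 2, 1], [0, 3, 5, 4], [0, 4, 3, 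
    1], [3, 4, 1, 0], [3, 1, 4, 5], [4, 0, 3, 5], [1, 2, 0, 3], [0, 2, 1, 4], [5, 2, 4, 3], [0, 5, 2, 1], [5, 0, 2, 
    4], [0, 3, 5, 2], [5, 0, 4, 2], [3, 5, 0, 4], [3, 4, 1, 5], [0, 3, 5, 1], [3, 0, 2, 5], [4, 1, 2, 5], [1, 5, 3, 
    0], [1, 4, 2, 5], [5, 1, 3, 2], [1, 4, 5, 3], [0, 5, 2, 4], [5, 4, 3, 1], [5, 1, 3, 4], [2, 0, 1, 3], [3, 5, 0, 
    2], [2, 3, 5, 4], [2, 4, 5, 3], [5, 0, 4, 1], [4, 1, 5, 0], [0, 1, 3, 5], [1, 4, 5, 2], [1, 0, 3, 4], [5, 0, 4, 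
    3], [1, 5, 2, 0], [0, 3, 2, 4], [5, 2, 4, 0], [3, 2, 5, 0], [4, 2, 5, 1], [4, 3, 5, 2], [1, 4, 2, 3], [0, 3, 2, 
    5], [4, 0, 2, 5], [3, 0, 5, 1], [0, 2, 1, 5], [5, 3, 0, 4], [1, 0, 3, 2], [4, 1, 5, 3], [0, 1, 3, 2], [0, 5, 4, 
    2], [4, 5, 3, 2], [5, 0, 2, 3], [5, 1, 2, 4], [2, 5, 4, 3], [4, 0, 3, 1], [1, 3, 4, 5], [0, 4, 3, 5], [2, 0, 1, 
    4], [2, 1, 0, 5], [0, 4, 2, 5], [1, 3, 4, 2], [1, 2, 0, 4], [1, 2, 0, 5], [0, 4, 3, 2], [3, 0, 5, 2], [2, 0, 1, 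
    5], [1, 3, 4, 0], [4, 0, 2, 3], [5, 1, 2, 3], [1, 5, 2, 4], [1, 5, 2, 3], [4, 0, 3, 2], [3, 1, 4, 2], [1, 5, 3, 
    4], [2, 1, 0, 3], [5, 1, 3, 0], [1, 5, 3, 2], [5, 4, 3, 2], [0, 5, 2, 3], [0, 4, 2, 3], [3, 1, 4, 0], [2, 1, 0, 
    4]]

/-- tree of the quadruples -/
noncomputable def quadPar : List (Nat × Nat) :=
    [(0, 0), (0, 0), (0, 1), (0, 2), (1, 1), (1, 2), (2, 0), (2, 2), (3, 0), (3, 1), (3, 2), (4, 0), (4, 2), (5, 
    0), (5, 1), (5, 2), (6, 1), (6, 2), (7, 0), (8, 1), (8, 2), (9, 0), (10, 0), (11, 1), (11, 2), (12, 0), (13, 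
    1), (13, 2), (14, 0), (15, 0), (16, 2), (17, 0), (17, 1), (17, 2), (18, 1), (18, 2), (19, 0), (19, 2), (20, 0), 
    (20, 1), (20, 2), (21, 1), (21, 2), (22, 1), (22, 2), (23, 2), (24, 0), (24, 1), (24, 2), (25, 1), (25, 2), 
    (26, 0), (26, 2), (27, 0), (27, 1), (27, 2), (29, 1), (29, 2), (30, 0), (31, 1), (31, 2), (32, 0), (33, 0), 
    (34, 0), (34, 2), (35, 0), (35, 1), (35, 2), (36, 1), (36, 2), (37, 0), (38, 1), (38, 2), (40, 0), (41, 2), 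
    (42, 0), (42, 2), (43, 0), (43, 2), (44, 0), (44, 2), (45, 0), (46, 1), (46, 2), (47, 0), (48, 0), (49, 0), 
    (49, 2), (50, 0), (50, 1), (50, 2), (51, 2), (52, 0), (53, 1), (53, 2), (55, 0), (56, 0), (56, 2), (57, 0), 
    (57, 2), (58, 1), (58, 2), (59, 0), (59, 2), (60, 0), (60, 1), (60, 2), (62, 1), (62, 2), (63, 2), (64, 0), 
    (65, 1), (65, 2), (67, 0), (68, 2), (69, 0), (69, 1), (69, 2), (70, 1), (70, 2), (71, 2), (72, 1), (72, 2), 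
    (73, 1), (73, 2), (74, 0), (75, 2), (76, 0), (77, 2), (78, 0), (79, 2), (81, 1), (81, 2), (82, 0), (82, 2), 
    (83, 0), (83, 1), (83, 2), (86, 2), (87, 0), (88, 1), (88, 2), (90, 0), (91, 0), (91, 1), (91, 2), (92, 1), 
    (92, 2), (93, 2), (94, 1), (94, 2), (95, 1), (95, 2), (96, 2), (97, 0), (98, 2), (100, 0), (100, 2), (101, 0), 
    (101, 1), (101, 2), (102, 2), (103, 0), (104, 1), (106, 0), (107, 0), (107, 2), (108, 0), (108, 2), (109, 0), 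
    (109, 1), (109, 2), (110, 1), (110, 2), (111, 2), (112, 1), (112, 2), (113, 1), (113, 2), (114, 0), (115, 1), 
    (115, 2), (116, 0), (117, 0), (118, 0), (118, 2), (119, 0), (119, 1), (119, 2), (120, 0), (122, 0), (123, 0), 
    (123, 2), (124, 0), (124, 2), (125, 1), (125, 2), (126, 0), (127, 1), (127, 2), (128, 0), (129, 1), (129, 2), 
    (130, 1), (130, 2), (131, 0), (131, 2), (132, 0), (132, 1), (132, 2), (133, 2), (134, 0), (135, 1), (137, 0), 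
    (138, 0), (138, 1), (139, 1), (139, 2), (140, 2), (141, 1), (141, 2), (142, 1), (142, 2), (143, 1), (143, 2), 
    (144, 0), (145, 0), (146, 0), (146, 2), (147, 1), (147, 2), (150, 0), (151, 0), (151, 2), (152, 0), (152, 2), 
    (153, 0), (154, 2), (155, 1), (155, 2), (156, 2), (158, 1), (160, 0), (161, 0), (162, 1), (162, 2), (164, 1), 
    (164, 2), (165, 2), (167, 2), (169, 1), (169, 2), (170, 0), (174, 0), (176, 0), (177, 0), (177, 2), (178, 0), 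
    (179, 1), (180, 0), (180, 2), (181, 1), (181, 2), (184, 2), (190, 1), (190, 2), (191, 2), (192, 0), (193, 2), 
    (196, 0), (198, 0), (199, 0), (200, 1), (201, 2), (202, 0), (202, 1), (204, 0), (205, 2), (209, 0), (210, 0), 
    (211, 1), (213, 1), (213, 2), (214, 1), (214, 2), (215, 0), (218, 0), (220, 0), (222, 0), (223, 0), (223, 2), 
    (224, 2), (227, 2), (231, 1), (231, 2), (232, 2), (233, 0), (234, 2), (236, 1), (237, 0), (237, 1), (239, 0), 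
    (240, 0), (240, 1), (242, 1), (242, 2), (244, 0), (246, 0), (246, 2), (247, 0), (247, 2), (248, 0), (249, 2), 
    (250, 0), (250, 2), (251, 1), (251, 2), (256, 0), (257, 2), (258, 0), (259, 2), (262, 0), (263, 0), (263, 1), 
    (264, 2), (265, 0), (265, 2), (266, 0), (267, 2), (268, 1), (268, 2), (272, 2), (277, 0), (278, 1), (278, 2), 
    (280, 0), (281, 0), (282, 0), (283, 0), (283, 2), (284, 1), (288, 2), (289, 2), (291, 0), (292, 1), (293, 2), 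
    (294, 2), (295, 0), (296, 2), (297, 1), (297, 2), (298, 2), (302, 1), (307, 2), (309, 2), (317, 2), (318, 1), 
    (319, 2), (321, 1), (343, 1)]

end Cfsg.Agent.LargeFischer.MatFineData
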